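import Mathlib.RingTheory.UniqueFactorizationDomain.Basic
import Mathlib.RingTheory.Localization.NumDen
import Mathlib.RingTheory.Localization.AtPrime.Basic
import Mathlib.RingTheory.Spectrum.Prime.Topology
import Mathlib.Tactic.FieldSimp
import Mathlib.Tactic.Ring

/-!
# Prescribing a rational function up to local units

`UnitAt y z`: the element `z` of the fraction field is a unit at the prime `y`.
-/

set_option autoImplicit false

universe u v

namespace Groth.Agent.UfdExt24

variable {R : Type u} [CommRing R] {K : Type v} [Field K] [Algebra R K]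

/-- `z` is a unit at `y`. -/
def UnitAt (y : PrimeSpectrum R) (z : K) : Prop :=
  ∃ a b : R, a ∉ y.asIdeal ∧ b ∉ y.asIdeal ∧ z * algebraMap R K b = algebraMap R K a

theorem UnitAt.one (y : PrimeSpectrum R) : UnitAt y (1 : K) :=
  ⟨1, 1, y.isPrime.ne_top ∘ (Ideal.eq_top_iff_one _).2, y.isPrime.ne_top ∘ (Ideal.eq_top_iff_one _).2,
    by simp⟩

theorem UnitAt.mul {y : PrimeSpectrum R} {z w : K} (hz : UnitAt y z) (hw : UnitAt y w) :
    UnitAt y (z * w) := by
  obtain ⟨a, b, ha, hb, e⟩ := hz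
  obtain ⟨a', b', ha', hb', e'⟩ := hw
  refine ⟨a * a', b * b', fun h => (y.isPrime.mem_or_mem h).elim ha ha',
    fun h => (y.isPrime.mem_or_mem h).elim hb hb', ?_⟩
  rw [map_mul, map_mul, ← e, ← e']
  ring

theorem UnitAt.mono {y y' : PrimeSpectrum R} (h : y' ≤ y) {z : K} (hz : UnitAt y z) : UnitAt y' z := by
  obtain ⟨a, b, ha, hb, e⟩ := hz
  exact ⟨a, b, fun h' => ha (h h'), fun h' => hb (h h'), e⟩

theorem UnitAt.ne_zero [IsFractionRing R K] {y : PrimeSpectrum R} {z : K} (hz : UnitAt y z) : z ≠ 0 := by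
  rintro rfl
  obtain ⟨a, b, ha, -, e⟩ := hz
  rw [zero_mul, eq_comm, map_eq_zero_iff _ (IsFractionRing.injective R K)] at e
  exact ha (e ▸ y.asIdeal.zero_mem)

theorem UnitAt.inv [IsFractionRing R K] {y : PrimeSpectrum R} {z : K} (hz : UnitAt y z) :
    UnitAt y z⁻¹ := by
  have hz0 := hz.ne_zero
  obtain ⟨a, b, ha, hb, e⟩ := hz
  exact ⟨b, a, hb, ha, by rw [← e, inv_mul_cancel_left₀ hz0]⟩

theorem UnitAt.div [IsFractionRing R K] {y : PrimeSpectrum R} {z w : K} (hz : UnitAt y z)
    (hw : UnitAt y w) : UnitAt y (z / w) := by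
  rw [div_eq_mul_inv]; exact hz.mul hw.inv

theorem unitAt_algebraMap {y : PrimeSpectrum R} {a : R} (ha : a ∉ y.asIdeal) :
    UnitAt y (algebraMap R K a) :=
  ⟨a, 1, ha, y.isPrime.ne_top ∘ (Ideal.eq_top_iff_one _).2, by simp⟩

theorem UnitAt.pow {y : PrimeSpectrum R} {z : K} (hz : UnitAt y z) (n : ℕ) : UnitAt y (z ^ n) := by
  induction n with
  | zero => simpa using UnitAt.one y
  | succ n ih => rw [pow_succ]; exact ih.mul hz

/-- The prime spectrum point of a prime element. -/
def primePt {q : R} (hq : Prime q) : PrimeSpectrum R :=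
  ⟨Ideal.span {q}, (Ideal.span_singleton_prime hq.ne_zero).2 hq⟩

theorem mem_primePt {q a : R} (hq : Prime q) : a ∈ (primePt hq).asIdeal ↔ q ∣ a :=
  Ideal.mem_span_singleton

variable [IsDomain R] [UniqueFactorizationMonoid R] [IsFractionRing R K]

omit [IsFractionRing R K] [Algebra R K] in
theorem exists_prime_dvd_mem (y : PrimeSpectrum R) {a : R} (ha : a ∈ y.asIdeal) (ha0 : a ≠ 0) :
    ∃ q : R, ∃ _ : Prime q, q ∈ y.asIdeal ∧ q ∣ a := by
  induction a using UniqueFactorizationMonoid.induction_on_prime with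
  | h₁ => exact absurd rfl ha0
  | h₂ a hu => exact absurd (Ideal.eq_top_of_isUnit_mem _ ha hu) y.isPrime.ne_top
  | h₃ b p hb hp ih =>
    rcases y.isPrime.mem_or_mem ha with h | h
    · exact ⟨p, hp, h, dvd_mul_right _ _⟩
    · obtain ⟨q, hq, hqy, hqb⟩ := ih h hb
      exact ⟨q, hq, hqy, dvd_mul_of_dvd_right hqb p⟩

/-- Being a unit at `y` can be tested at the prime elements in `y`. -/
theorem unitAt_of_primes {y : PrimeSpectrum R} {z : K} (hz : z ≠ 0)
    (h : ∀ (q : R) (hq : Prime q), q ∈ y.asIdeal → UnitAt (primePt hq) z) : UnitAt y z := by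
  obtain ⟨a, b, hcop, e⟩ := IsFractionRing.exists_reduced_fraction (A := R) z
  have e' : z * algebraMap R K (b : R) = algebraMap R K a := by
    rw [← e, IsLocalization.mk'_spec]
  have hb0 : (b : R) ≠ 0 := nonZeroDivisors.ne_zero b.2
  have ha0 : a ≠ 0 := by
    rintro rfl
    rw [map_zero, mul_eq_zero, map_eq_zero_iff _ (IsFractionRing.injective R K)] at e'
    exact e'.elim hz hb0
  have key : ∀ (q : R) (hq : Prime q), q ∈ y.asIdeal → ¬ q ∣ a ∧ ¬ q ∣ (b : R) := by
    intro q hq hqy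
    obtain ⟨a', b', ha', hb', e''⟩ := h q hq hqy
    rw [mem_primePt] at ha' hb'
    have he : a * b' = a' * b := IsFractionRing.injective R K (by
      rw [map_mul, map_mul, ← e', ← e'']; ring)
    constructor
    · intro hqa
      rcases hq.dvd_or_dvd (he ▸ dvd_mul_of_dvd_left hqa b' : q ∣ a' * b) with h1 | h1
      · exact ha' h1
      · exact hq.not_unit (hcop hqa h1)
    · intro hqb
      rcases hq.dvd_or_dvd (he.symm ▸ dvd_mul_of_dvd_right hqb a' : q ∣ a * b') with h1 | h1
      · exact hq.not_unit (hcop h1 hqb)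
      · exact hb' h1
  refine ⟨a, b, fun ha => ?_, fun hb => ?_, e'⟩
  · obtain ⟨q, hq, hqy, hqa⟩ := exists_prime_dvd_mem y ha ha0
    exact (key q hq hqy).1 hqa
  · obtain ⟨q, hq, hqy, hqb⟩ := exists_prime_dvd_mem y hb hb0
    exact (key q hq hqy).2 hqb

/-- A product of powers of `p` turning `z` into a unit at `p`. -/
theorem exists_power_unitAt {p : R} (hp : Prime p) {z : K} (hz : z ≠ 0) :
    ∃ m k : ℕ, UnitAt (primePt hp) (z * (algebraMap R K p ^ k / algebraMap R K p ^ m)) := by
  obtain ⟨a, b, hb, rfl⟩ := IsFractionRing.div_surjective (A := R) z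
  have hinj := IsFractionRing.injective R K
  have hb0 : b ≠ 0 := nonZeroDivisors.ne_zero hb
  have ha0 : a ≠ 0 := by rintro rfl; simp at hz
  obtain ⟨m, a', ha', rfl⟩ := WfDvdMonoid.max_power_factor ha0 hp.irreducible
  obtain ⟨k, b', hb', rfl⟩ := WfDvdMonoid.max_power_factor hb0 hp.irreducible
  refine ⟨m, k, a', b', fun h => ha' ((mem_primePt hp).1 h), fun h => hb' ((mem_primePt hp).1 h), ?_⟩
  have hp0 : algebraMap R K p ≠ 0 := (map_ne_zero_iff _ hinj).2 hp.ne_zero
  have hb0' : algebraMap R K b' ≠ 0 :=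
    (map_ne_zero_iff _ hinj).2 (fun h => hb' (h ▸ dvd_zero p))
  rw [map_mul, map_pow, map_mul, map_pow]
  field_simp

/-- Local data on a generisation-stable set of primes come from one rational function. -/
theorem exists_fit (U : Set (PrimeSpectrum R)) (hgen : ∀ y y', y' ≤ y → y ∈ U → y' ∈ U)
    (c : PrimeSpectrum R → K) (hbot : (⊥ : PrimeSpectrum R) ∈ U) (hc0 : ∀ y ∈ U, c y ≠ 0)
    (hloc : ∀ y ∈ U, ∃ f ∉ y.asIdeal, ∀ y' ∈ U, f ∉ y'.asIdeal → UnitAt y' (c y / c y')) :
    ∃ h : K, h ≠ 0 ∧ ∀ y ∈ U, UnitAt y (h / c y) := by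
  obtain ⟨f₀, hf₀, hf⟩ := hloc ⊥ hbot
  have hf₀0 : f₀ ≠ 0 := fun h => hf₀ (h ▸ Ideal.zero_mem _)
  let c₀ := c ⊥
  have hc₀ : c₀ ≠ 0 := hc0 ⊥ hbot
  have main : ∀ f : R, f ≠ 0 → ∃ g : K, g ≠ 0 ∧ ∀ (q : R) (hq : Prime q), primePt hq ∈ U →
      (q ∣ f → UnitAt (primePt hq) (g * (c₀ / c (primePt hq)))) ∧
      (¬ q ∣ f → UnitAt (primePt hq) g) := by
    intro f
    induction f using UniqueFactorizationMonoid.induction_on_prime with
    | h₁ => exact fun h => absurd rfl h
    | h₂ f hu => exact fun _ => ⟨1, one_ne_zero, fun q hq _ =>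
        ⟨fun hqf => absurd (isUnit_of_dvd_unit hqf hu) hq.not_unit, fun _ => UnitAt.one _⟩⟩
    | h₃ f p hf hp ih =>
      intro _
      obtain ⟨g, hg0, hg⟩ := ih hf
      by_cases hcase : p ∣ f ∨ primePt hp ∉ U
      · refine ⟨g, hg0, fun q hq hqU => ⟨fun hqf => ?_, fun hqf => (hg q hq hqU).2 fun h' => hqf
          (dvd_mul_of_dvd_right h' p)⟩⟩
        rcases hq.dvd_or_dvd hqf with h' | h'
        · rcases hcase with hpf | hpU
          · exact (hg q hq hqU).1 (h'.trans hpf)
          · have hass : Associated q p := hq.associated_of_dvd hp h'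
            have : primePt hq = primePt hp := PrimeSpectrum.ext
              ((Ideal.span_singleton_eq_span_singleton).2 hass)
            exact absurd (this ▸ hqU) hpU
        · exact (hg q hq hqU).1 h'
      · simp only [not_or, not_not] at hcase
        obtain ⟨hpf, hpU⟩ := hcase
        have hp0 : algebraMap R K p ≠ 0 :=
          (map_ne_zero_iff _ (IsFractionRing.injective R K)).2 hp.ne_zero
        obtain ⟨m, k, hmk⟩ := exists_power_unitAt (K := K) hp
          (mul_ne_zero hg0 (div_ne_zero hc₀ (hc0 _ hpU)))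
        refine ⟨g * (algebraMap R K p ^ k / algebraMap R K p ^ m),
          mul_ne_zero hg0 (div_ne_zero (pow_ne_zero _ hp0) (pow_ne_zero _ hp0)), fun q hq hqU => ?_⟩
        by_cases hqp : q ∣ p
        · have hass : Associated q p := hq.associated_of_dvd hp hqp
          have : primePt hq = primePt hp := PrimeSpectrum.ext
            ((Ideal.span_singleton_eq_span_singleton).2 hass)
          refine ⟨fun _ => ?_, fun h' => absurd (dvd_mul_of_dvd_left hqp f) h'⟩
          rw [this, mul_right_comm]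
          exact hmk
        · have hρ : UnitAt (primePt hq) (algebraMap R K p ^ k / algebraMap R K p ^ m) := by
            have hpq : UnitAt (primePt hq) (algebraMap R K p) :=
              unitAt_algebraMap fun h' => hqp ((mem_primePt hq).1 h')
            exact (hpq.pow k).div (hpq.pow m)
          refine ⟨fun h' => ?_, fun h' => ((hg q hq hqU).2 fun h'' => h'
            (dvd_mul_of_dvd_right h'' p)).mul hρ⟩
          rw [mul_right_comm]
          exact ((hg q hq hqU).1 ((hq.dvd_or_dvd h').resolve_left hqp)).mul hρ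
  obtain ⟨g, hg0, hg⟩ := main f₀ hf₀0
  refine ⟨c₀ * g, mul_ne_zero hc₀ hg0, fun y hy => unitAt_of_primes
    (div_ne_zero (mul_ne_zero hc₀ hg0) (hc0 y hy)) fun q hq hqy => ?_⟩
  have hle : primePt hq ≤ y := (Ideal.span_singleton_le_iff_mem _).2 hqy
  have hqU : primePt hq ∈ U := hgen y _ hle hy
  have h1 : UnitAt (primePt hq) (g * (c₀ / c (primePt hq))) := by
    by_cases hqf : q ∣ f₀
    · exact (hg q hq hqU).1 hqf
    · exact ((hg q hq hqU).2 hqf).mul (hf _ hqU fun h' => hqf ((mem_primePt hq).1 h'))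
  obtain ⟨f, hfy, hfU⟩ := hloc y hy
  have h2 : UnitAt (primePt hq) (c y / c (primePt hq)) := hfU _ hqU fun h' => hfy (hle h')
  have hcy := hc0 y hy
  have hcq := hc0 _ hqU
  have e : c₀ * g / c y = g * (c₀ / c (primePt hq)) / (c y / c (primePt hq)) := by field_simp
  rw [e]
  exact h1.div h2

omit [IsDomain R] [UniqueFactorizationMonoid R] [IsFractionRing R K] in
theorem unitAt_comap {S : Type*} [CommRing S] [Algebra R S] [Algebra S K] [IsScalarTower R S K]
    (M : Submonoid R) [IsLocalization M S] (y : PrimeSpectrum S) (z : K) :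
    UnitAt (PrimeSpectrum.comap (algebraMap R S) y) z ↔ UnitAt y z := by
  constructor
  · rintro ⟨a, b, ha, hb, e⟩
    exact ⟨algebraMap R S a, algebraMap R S b, ha, hb, by
      rwa [← IsScalarTower.algebraMap_apply, ← IsScalarTower.algebraMap_apply]⟩
  · rintro ⟨a, b, ha, hb, e⟩
    obtain ⟨⟨a₁, s⟩, hs⟩ := IsLocalization.surj M a
    obtain ⟨⟨b₁, t⟩, ht⟩ := IsLocalization.surj M b
    have hnot : ∀ s : M, algebraMap R S (s : R) ∉ y.asIdeal := fun s h =>
      y.isPrime.ne_top (Ideal.eq_top_of_isUnit_mem _ h (IsLocalization.map_units S s))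
    refine ⟨a₁ * t, b₁ * s, ?_, ?_, ?_⟩
    · show algebraMap R S (a₁ * t) ∉ y.asIdeal
      rw [map_mul, ← hs]
      exact fun h => (y.isPrime.mem_or_mem h).elim
        (fun h' => (y.isPrime.mem_or_mem h').elim ha (hnot s)) (hnot t)
    · show algebraMap R S (b₁ * s) ∉ y.asIdeal
      rw [map_mul, ← ht]
      exact fun h => (y.isPrime.mem_or_mem h).elim
        (fun h' => (y.isPrime.mem_or_mem h').elim hb (hnot t)) (hnot s)
    · have hs' := congrArg (algebraMap S K) hs
      have ht' := congrArg (algebraMap S K) ht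
      simp only [map_mul, ← IsScalarTower.algebraMap_apply] at hs' ht' ⊢
      rw [← hs', ← ht', ← e]
      ring

omit [UniqueFactorizationMonoid R] in
/-- Localised form: only the primes inside `p` matter, and only there is factoriality needed. -/
theorem exists_fit_atPrime (p : PrimeSpectrum R) {S : Type*} [CommRing S] [IsDomain S]
    [UniqueFactorizationMonoid S] [Algebra R S] [Algebra S K] [IsScalarTower R S K]
    [IsLocalization.AtPrime S p.asIdeal] [IsFractionRing S K]
    (U : Set (PrimeSpectrum R)) (hgen : ∀ y y', y' ≤ y → y ∈ U → y' ∈ U)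
    (c : PrimeSpectrum R → K) (hbot : (⊥ : PrimeSpectrum R) ∈ U) (hc0 : ∀ y ∈ U, c y ≠ 0)
    (hloc : ∀ y ∈ U, ∃ f ∉ y.asIdeal, ∀ y' ∈ U, f ∉ y'.asIdeal → UnitAt y' (c y / c y')) :
    ∃ h : K, h ≠ 0 ∧ ∀ y ∈ U, y ≤ p → UnitAt y (h / c y) := by
  let M := p.asIdeal.primeCompl
  obtain ⟨h, h0, hh⟩ := exists_fit (R := S) (PrimeSpectrum.comap (algebraMap R S) ⁻¹' U)
    (fun y y' hle hy => hgen _ _ (Ideal.comap_mono hle) hy)
    (fun y => c (PrimeSpectrum.comap (algebraMap R S) y))
    (hgen _ _ (by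
      intro a ha
      have : algebraMap R S a = 0 := ha
      have : algebraMap R K a = 0 := by rw [IsScalarTower.algebraMap_apply R S K, this, map_zero]
      exact (map_eq_zero_iff _ (IsFractionRing.injective R K)).1 this) hbot)
    (fun y hy => hc0 _ hy)
    (fun y hy => by
      obtain ⟨f, hf, hf'⟩ := hloc _ hy
      exact ⟨algebraMap R S f, hf, fun y' hy' hfy' =>
        (unitAt_comap M y' _).1 (hf' _ hy' hfy')⟩)
  refine ⟨h, h0, fun y hy hyp => ?_⟩
  have hdisj : Disjoint (M : Set R) (y.asIdeal : Set R) :=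
    Set.disjoint_left.2 fun a ha hay => ha (hyp hay)
  let y' : PrimeSpectrum S := ⟨Ideal.map (algebraMap R S) y.asIdeal,
    IsLocalization.isPrime_of_isPrime_disjoint M S _ y.isPrime hdisj⟩
  have e : PrimeSpectrum.comap (algebraMap R S) y' = y := PrimeSpectrum.ext
    (IsLocalization.under_map_of_isPrime_disjoint M S y.isPrime hdisj)
  have h1 := (unitAt_comap (K := K) M y' _).2 (hh y' (by show _ ∈ U; rw [e]; exact hy))
  simp only [e] at h1
  exact h1

end Groth.Agent.UfdExt24
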