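import Mathlib.AlgebraicGeometry.FunctionField
import Mathlib.RingTheory.Localization.LocalizationLocalization
import Groth.Agent.UfdExt24.Algebra

/-!
# Rational functions on an affine open with domain of sections
-/

set_option autoImplicit false

universe u

open CategoryTheory AlgebraicGeometry Opposite TopologicalSpace

namespace Groth.Agent.UfdExt24

variable {X : Scheme.{u}} {W : X.Opens} (hW : IsAffineOpen W)

/-- Restriction of functions. -/
noncomputable abbrev rs {U V : X.Opens} (h : V ≤ U) : Γ(X, U) →+* Γ(X, V) :=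
  (X.presheaf.map (homOfLE h).op).hom

theorem germ_rs {U V : X.Opens} (h : V ≤ U) {y : X} (hy : y ∈ V) (r : Γ(X, U)) :
    X.presheaf.germ V y hy (rs h r) = X.presheaf.germ U y (h hy) r :=
  TopCat.Presheaf.germ_res_apply X.presheaf (homOfLE h) y hy r

/-- The prime of a point of the affine open. -/
noncomputable def pt {y : X} (hy : y ∈ W) : PrimeSpectrum Γ(X, W) := hW.primeIdealOf ⟨y, hy⟩

theorem fromSpec_pt {y : X} (hy : y ∈ W) : hW.fromSpec (pt hW hy) = y :=
  hW.fromSpec_primeIdealOf ⟨y, hy⟩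

theorem fromSpec_mem (p : PrimeSpectrum Γ(X, W)) : hW.fromSpec p ∈ W :=
  hW.range_fromSpec.le ⟨p, rfl⟩

theorem pt_fromSpec (p : PrimeSpectrum Γ(X, W)) : pt hW (fromSpec_mem hW p) = p :=
  hW.fromSpec.isOpenEmbedding.injective (fromSpec_pt hW (fromSpec_mem hW p))

variable [IsDomain Γ(X, W)]

/-- The generic point. -/
noncomputable def gen : X := hW.fromSpec (⊥ : PrimeSpectrum Γ(X, W))

theorem gen_mem : gen hW ∈ W := fromSpec_mem hW _

theorem gen_specializes {y : X} (hy : y ∈ W) : gen hW ⤳ y := by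
  conv_rhs => rw [← fromSpec_pt hW hy]
  exact ((PrimeSpectrum.le_iff_specializes _ _).1 bot_le).map hW.fromSpec.continuous

theorem gen_mem_of_mem {V : X.Opens} {y : X} (hy : y ∈ W) (hyV : y ∈ V) : gen hW ∈ V :=
  (gen_specializes hW hy).mem_open V.isOpen hyV

theorem exists_stalkEquiv : ∃ e : X.presheaf.stalk (gen hW) ≃+* FractionRing Γ(X, W),
    ∀ a, e (X.presheaf.germ W (gen hW) (gen_mem hW) a) = algebraMap _ _ a := by
  let _ := TopCat.Presheaf.algebra_section_stalk X.presheaf (⟨gen hW, gen_mem hW⟩ : W)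
  have h1 : IsLocalization (nonZeroDivisors Γ(X, W)) (X.presheaf.stalk (gen hW)) := by
    have h : IsLocalization (⊥ : PrimeSpectrum Γ(X, W)).asIdeal.primeCompl
        (X.presheaf.stalk (gen hW)) :=
      hW.isLocalization_stalk' (⊥ : PrimeSpectrum Γ(X, W)) (gen_mem hW)
    have e : (⊥ : PrimeSpectrum Γ(X, W)).asIdeal.primeCompl = nonZeroDivisors Γ(X, W) := by
      ext a
      exact mem_nonZeroDivisors_iff_ne_zero.symm
    rwa [e] at h
  let e := IsLocalization.algEquiv (nonZeroDivisors Γ(X, W)) (X.presheaf.stalk (gen hW))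
    (FractionRing Γ(X, W))
  exact ⟨e.toRingEquiv, e.commutes⟩

/-- The stalk at the generic point is the fraction field. -/
noncomputable def stalkEquiv : X.presheaf.stalk (gen hW) ≃+* FractionRing Γ(X, W) :=
  (exists_stalkEquiv hW).choose

/-- The value of a section in the fraction field. -/
noncomputable def val (V : X.Opens) (h : gen hW ∈ V) : Γ(X, V) →+* FractionRing Γ(X, W) :=
  (stalkEquiv hW).toRingHom.comp (X.presheaf.germ V (gen hW) h).hom

theorem val_self (a : Γ(X, W)) : val hW W (gen_mem hW) a = algebraMap _ _ a :=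
  (exists_stalkEquiv hW).choose_spec a

theorem val_rs {U V : X.Opens} (h : V ≤ U) (hV : gen hW ∈ V) (r : Γ(X, U)) :
    val hW V hV (rs h r) = val hW U (h hV) r :=
  congrArg (stalkEquiv hW) (germ_rs h hV r)

/-- The stalk at `y` maps to the fraction field. -/
noncomputable def sp {y : X} (hy : y ∈ W) : X.presheaf.stalk y →+* FractionRing Γ(X, W) :=
  (stalkEquiv hW).toRingHom.comp (X.presheaf.stalkSpecializes (gen_specializes hW hy)).hom

theorem sp_germ {y : X} (hy : y ∈ W) {V : X.Opens} (hyV : y ∈ V) (r : Γ(X, V)) :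
    sp hW hy (X.presheaf.germ V y hyV r) = val hW V (gen_mem_of_mem hW hy hyV) r :=
  congrArg (stalkEquiv hW) (TopCat.Presheaf.germ_stalkSpecializes_apply X.presheaf hyV _ r)

theorem sp_injective {y : X} (hy : y ∈ W) : Function.Injective (sp hW hy) := by
  let _ := TopCat.Presheaf.algebra_section_stalk X.presheaf (⟨y, hy⟩ : W)
  have : IsLocalization.AtPrime (X.presheaf.stalk y) (pt hW hy).asIdeal :=
    hW.isLocalization_stalk ⟨y, hy⟩
  rw [injective_iff_map_eq_zero]
  intro z hz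
  obtain ⟨a, s, rfl⟩ := IsLocalization.exists_mk'_eq (pt hW hy).asIdeal.primeCompl z
  have h1 : sp hW hy (algebraMap Γ(X, W) (X.presheaf.stalk y) a) = 0 := by
    rw [← IsLocalization.mk'_spec (X.presheaf.stalk y) a s, map_mul, hz, zero_mul]
  have h2 : (algebraMap Γ(X, W) (FractionRing Γ(X, W))) a = 0 := by
    rw [← val_self hW, ← sp_germ hW hy hy]
    exact h1
  rw [(map_eq_zero_iff _ (IsFractionRing.injective _ _)).1 h2, IsLocalization.mk'_zero]

/-- Sections inside the affine open are determined by their value. -/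
theorem ext_of_val {V : X.Opens} (hV : V ≤ W) {a b : Γ(X, V)}
    (h : ∀ hη : gen hW ∈ V, val hW V hη a = val hW V hη b) : a = b := by
  refine TopCat.Presheaf.section_ext X.sheaf V a b fun y hy => sp_injective hW (hV hy) ?_
  exact (sp_germ hW (hV hy) hy a).trans ((h _).trans (sp_germ hW (hV hy) hy b).symm)

theorem unitAt_val {V : X.Opens} {y : X} (hy : y ∈ W) (hyV : y ∈ V) {r : Γ(X, V)}
    (hr : IsUnit (X.presheaf.germ V y hyV r)) :
    UnitAt (pt hW hy) (val hW V (gen_mem_of_mem hW hy hyV) r) := by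
  let _ := TopCat.Presheaf.algebra_section_stalk X.presheaf (⟨y, hy⟩ : W)
  have : IsLocalization.AtPrime (X.presheaf.stalk y) (pt hW hy).asIdeal :=
    hW.isLocalization_stalk ⟨y, hy⟩
  obtain ⟨⟨a, s⟩, hs⟩ :=
    IsLocalization.surj (pt hW hy).asIdeal.primeCompl (X.presheaf.germ V y hyV r)
  refine ⟨a, s, ?_, s.2, ?_⟩
  · refine (IsLocalization.AtPrime.isUnit_to_map_iff (X.presheaf.stalk y) (pt hW hy).asIdeal a).1 ?_
    rw [← hs]
    exact hr.mul (IsLocalization.map_units _ s)
  · have h1 := congrArg (sp hW hy) hs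
    rw [map_mul, sp_germ] at h1
    rw [← val_self hW, ← val_self hW, ← sp_germ hW hy hy, ← sp_germ hW hy hy]
    exact h1

theorem exists_unit_of_unitAt {y : X} (hy : y ∈ W) {z : FractionRing Γ(X, W)}
    (hz : UnitAt (pt hW hy) z) :
    ∃ V : X.Opens, ∃ _ : V ≤ W, ∃ hyV : y ∈ V, ∃ r : Γ(X, V), IsUnit r ∧
      val hW V (gen_mem_of_mem hW hy hyV) r = z := by
  obtain ⟨a, b, ha, hb, e⟩ := hz
  let _ := TopCat.Presheaf.algebra_section_stalk X.presheaf (⟨y, hy⟩ : W)
  have : IsLocalization.AtPrime (X.presheaf.stalk y) (pt hW hy).asIdeal :=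
    hW.isLocalization_stalk ⟨y, hy⟩
  have hmem : ∀ c : Γ(X, W), c ∉ (pt hW hy).asIdeal → y ∈ X.basicOpen c := fun c hc =>
    (X.mem_basicOpen c y hy).2
      ((IsLocalization.AtPrime.isUnit_to_map_iff (X.presheaf.stalk y) (pt hW hy).asIdeal c).2 hc)
  let V := X.basicOpen a ⊓ X.basicOpen b
  have hVW : V ≤ W := inf_le_left.trans (X.basicOpen_le a)
  have hu : ∀ c : Γ(X, W), V ≤ X.basicOpen c → IsUnit (rs hVW c) := fun c hc => by
    have h1 := (RingedSpace.isUnit_res_basicOpen X.toRingedSpace c).map (rs hc)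
    have e2 : rs hc (rs (X.basicOpen_le c) c) = rs hVW c :=
      (ConcreteCategory.congr_hom (X.presheaf.map_comp (homOfLE _).op (homOfLE hc).op) c).symm
    rw [← e2]
    exact h1
  obtain ⟨ub, hub⟩ := hu b inf_le_right
  refine ⟨V, hVW, ⟨hmem a ha, hmem b hb⟩, rs hVW a * (↑ub⁻¹ : Γ(X, V)),
    (hu a inf_le_left).mul (Units.isUnit _), ?_⟩
  have hη : gen hW ∈ V := gen_mem_of_mem hW hy ⟨hmem a ha, hmem b hb⟩
  have h1 : val hW V hη (rs hVW a * (↑ub⁻¹ : Γ(X, V))) * algebraMap _ _ b =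
      algebraMap _ _ a := by
    rw [← val_self hW, ← val_self hW, ← val_rs hW hVW hη, ← val_rs hW hVW hη, ← map_mul, ← hub,
      Units.inv_mul_cancel_right]
  have hb0 : (algebraMap Γ(X, W) (FractionRing Γ(X, W))) b ≠ 0 :=
    (map_ne_zero_iff _ (IsFractionRing.injective _ _)).2 fun h => hb (h ▸ Ideal.zero_mem _)
  exact mul_right_cancel₀ hb0 (h1.trans e.symm)

/-- A value that is a unit at every point comes from a unit section. -/
theorem exists_unit_glue {V : X.Opens} (hV : V ≤ W) {z : FractionRing Γ(X, W)}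
    (hz : ∀ (y : X) (hy : y ∈ V), UnitAt (pt hW (hV hy)) z) :
    ∃ r : Γ(X, V), IsUnit r ∧ ∀ hη : gen hW ∈ V, val hW V hη r = z := by
  choose U hUW hyU r hr hval using fun y : V => exists_unit_of_unitAt hW (hV y.2) (hz y y.2)
  have glue : ∀ (s : ∀ y : V, Γ(X, V ⊓ U y)) (w : FractionRing Γ(X, W)),
      (∀ y hη, val hW (V ⊓ U y) hη (s y) = w) →
      ∃ t : Γ(X, V), ∀ hη : gen hW ∈ V, val hW V hη t = w := by
    intro s w hs
    obtain ⟨t, ht, -⟩ := TopCat.Sheaf.existsUnique_gluing' X.sheaf (fun y : V => V ⊓ U y) V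
      (fun y => homOfLE inf_le_left) (fun y hy => Opens.mem_iSup.2 ⟨⟨y, hy⟩, hy, hyU _⟩) s
      (fun i j => ext_of_val hW ((inf_le_left.trans inf_le_left).trans hV) fun hη =>
        (val_rs hW inf_le_left hη _).trans ((hs i _).trans
          ((val_rs hW inf_le_right hη _).trans (hs j _)).symm))
    refine ⟨t, fun hη => ?_⟩
    rcases isEmpty_or_nonempty V with h | ⟨⟨y⟩⟩
    · exact h.elim ⟨gen hW, hη⟩
    · have hη' : gen hW ∈ V ⊓ U y := gen_mem_of_mem hW (hV y.2) ⟨y.2, hyU y⟩
      rw [← hs y hη', ← val_rs hW inf_le_left hη' t]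
      exact congrArg (val hW _ hη') (ht y)
  obtain ⟨t, ht⟩ := glue (fun y => rs inf_le_right (r y)) z fun y hη =>
    (val_rs hW inf_le_right hη _).trans (hval y)
  obtain ⟨t', ht'⟩ := glue (fun y => rs inf_le_right (↑(hr y).unit⁻¹ : Γ(X, U y))) z⁻¹ fun y hη => by
    rw [val_rs]
    refine eq_inv_of_mul_eq_one_left ?_
    rw [← hval y, ← map_mul, IsUnit.val_inv_mul, map_one]
  refine ⟨t, IsUnit.of_mul_eq_one t' (ext_of_val hW hV fun hη => ?_), ht⟩
  rcases isEmpty_or_nonempty V with h | ⟨⟨y⟩⟩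
  · exact h.elim ⟨gen hW, hη⟩
  · have hz0 : z ≠ 0 := (hz y.1 y.2).ne_zero
    rw [map_mul, map_one, ht hη, ht' hη, mul_inv_cancel₀ hz0]

theorem pt_mono {y x : X} (hy : y ∈ W) (hx : x ∈ W) (h : y ⤳ x) : pt hW hy ≤ pt hW hx := by
  rw [PrimeSpectrum.le_iff_specializes]
  exact hW.fromSpec.isOpenEmbedding.isInducing.specializes_iff.1
    (by rwa [fromSpec_pt, fromSpec_pt])

theorem fromSpec_specializes {p q : PrimeSpectrum Γ(X, W)} (h : p ≤ q) :
    hW.fromSpec p ⤳ hW.fromSpec q :=
  ((PrimeSpectrum.le_iff_specializes _ _).1 h).map hW.fromSpec.continuous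

/-- The stalk at a point of the affine open has the same fraction field. -/
theorem exists_stalk_algebra {x : X} (hx : x ∈ W) :
    ∃ (_ : Algebra (X.presheaf.stalk x) (FractionRing Γ(X, W)))
      (_ : Algebra Γ(X, W) (X.presheaf.stalk x)),
      IsScalarTower Γ(X, W) (X.presheaf.stalk x) (FractionRing Γ(X, W)) ∧
      IsLocalization.AtPrime (X.presheaf.stalk x) (pt hW hx).asIdeal ∧
      IsFractionRing (X.presheaf.stalk x) (FractionRing Γ(X, W)) ∧
      IsDomain (X.presheaf.stalk x) := by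
  let _ := TopCat.Presheaf.algebra_section_stalk X.presheaf (⟨x, hx⟩ : W)
  letI : Algebra (X.presheaf.stalk x) (FractionRing Γ(X, W)) := (sp hW hx).toAlgebra
  have h1 : IsScalarTower Γ(X, W) (X.presheaf.stalk x) (FractionRing Γ(X, W)) :=
    IsScalarTower.of_algebraMap_eq fun a => ((sp_germ hW hx hx a).trans (val_self hW a)).symm
  have h2 : IsLocalization.AtPrime (X.presheaf.stalk x) (pt hW hx).asIdeal :=
    hW.isLocalization_stalk ⟨x, hx⟩
  have h3 : IsDomain (X.presheaf.stalk x) := (sp_injective hW hx).isDomain (sp hW hx)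
  exact ⟨_, _, h1, h2, IsFractionRing.isFractionRing_of_isDomain_of_isLocalization
    (pt hW hx).asIdeal.primeCompl (X.presheaf.stalk x) (FractionRing Γ(X, W)), h3⟩

end Groth.Agent.UfdExt24
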