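import Groth.Agent.PicLib.Invertible
import Groth.Agent.UfdExt24.Germ

/-!
# Families of compatible generators and their rational functions
-/

set_option autoImplicit false

universe u v

open CategoryTheory AlgebraicGeometry Opposite TopologicalSpace
open Groth.Agent.PicLib Groth.Agent.Coherent

namespace Groth.Agent.UfdExt24

/-- A family of sections of `M`, generating on `U₁`, with transition functions on the overlaps. -/
structure Atlas {X : Scheme.{u}} (M : X.Modules) (U₁ : X.Opens) (ι : Type v) where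
  N : ι → X.Opens
  t : ∀ i, Γ(M, N i)
  isGen : ∀ i, IsGen M (N i ⊓ U₁) (resM M inf_le_left (t i))
  comp : ∀ i j, ∃ r : Γ(X, N i ⊓ N j), resM M inf_le_left (t i) = r • resM M inf_le_right (t j)

namespace Atlas

variable {X : Scheme.{u}} {M : X.Modules} {U₁ : X.Opens} {ι : Type v} (T : Atlas M U₁ ι)

/-- A transition function. -/
noncomputable def R (i j : ι) : Γ(X, T.N i ⊓ T.N j) := (T.comp i j).choose

theorem R_spec (i j : ι) :
    resM M inf_le_left (T.t i) = T.R i j • resM M inf_le_right (T.t j) := (T.comp i j).choose_spec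

theorem R_res (i j : ι) {V : X.Opens} (h : V ≤ T.N i ⊓ T.N j) :
    resM M (h.trans inf_le_left) (T.t i) =
      rs h (T.R i j) • resM M (h.trans inf_le_right) (T.t j) := by
  have := congrArg (resM M h) (T.R_spec i j)
  rwa [resM_resM, resM_smul, resM_resM] at this

theorem smul_injective (i : ι) {V : X.Opens} (hi : V ≤ T.N i) (hU : V ≤ U₁) {a b : Γ(X, V)}
    (h : a • resM M hi (T.t i) = b • resM M hi (T.t i)) : a = b := by
  refine (T.isGen i V (le_inf hi hU)).1 ?_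
  simpa only [resM_resM] using h

variable {W : X.Opens} {hW : IsAffineOpen W} [IsDomain Γ(X, W)]
variable (hηU : gen hW ∈ U₁)

/-- The ratio of two generators at the generic point. -/
noncomputable def v (i j : ι) (h : gen hW ∈ T.N i ⊓ T.N j) : FractionRing Γ(X, W) :=
  val hW _ h (T.R i j)

include hηU in
theorem v_mul (i j k : ι) (h : gen hW ∈ T.N i ⊓ T.N j) (h' : gen hW ∈ T.N j ⊓ T.N k)
    (h'' : gen hW ∈ T.N i ⊓ T.N k) : T.v i k h'' = T.v i j h * T.v j k h' := by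
  let V := T.N i ⊓ T.N j ⊓ T.N k ⊓ U₁
  have hij : V ≤ T.N i ⊓ T.N j := inf_le_left.trans inf_le_left
  have hjk : V ≤ T.N j ⊓ T.N k :=
    le_inf (hij.trans inf_le_right) (inf_le_left.trans inf_le_right)
  have hik : V ≤ T.N i ⊓ T.N k :=
    le_inf (hij.trans inf_le_left) (inf_le_left.trans inf_le_right)
  have hV : gen hW ∈ V := ⟨⟨h, h'.2⟩, hηU⟩
  have e : rs hik (T.R i k) = rs hij (T.R i j) * rs hjk (T.R j k) := by
    refine T.smul_injective k (hik.trans inf_le_right) inf_le_right ?_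
    rw [mul_smul, ← T.R_res i k hik, ← T.R_res j k hjk, ← T.R_res i j hij]
  have e' := congrArg (val hW V hV) e
  rwa [map_mul, val_rs, val_rs, val_rs] at e'

include hηU in
theorem v_self (i : ι) (h : gen hW ∈ T.N i ⊓ T.N i) : T.v i i h = 1 := by
  let V := T.N i ⊓ T.N i ⊓ U₁
  have hV : gen hW ∈ V := ⟨h, hηU⟩
  have e : rs (inf_le_left : V ≤ _) (T.R i i) = 1 := by
    refine T.smul_injective i (inf_le_left.trans inf_le_left) inf_le_right ?_
    rw [one_smul, ← T.R_res i i inf_le_left]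
  have e' := congrArg (val hW V hV) e
  rwa [map_one, val_rs] at e'

include hηU in
theorem v_mul_v (i j : ι) (h : gen hW ∈ T.N i ⊓ T.N j) :
    T.v i j h * T.v j i ⟨h.2, h.1⟩ = 1 := by
  rw [← T.v_mul hηU i j i h ⟨h.2, h.1⟩ ⟨h.1, h.1⟩, T.v_self hηU]

include hηU in
theorem unitAt_v (i j : ι) {y : X} (hy : y ∈ W) (hyi : y ∈ T.N i) (hyj : y ∈ T.N j) :
    UnitAt (pt hW hy) (T.v i j ⟨gen_mem_of_mem hW hy hyi, gen_mem_of_mem hW hy hyj⟩) := by
  let V := T.N i ⊓ T.N j ⊓ W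
  have hVW : V ≤ W := inf_le_right
  have hij : V ≤ T.N i ⊓ T.N j := inf_le_left
  have hji : V ≤ T.N j ⊓ T.N i := hij.trans (inf_comm _ _).le
  have hyV : y ∈ V := ⟨⟨hyi, hyj⟩, hy⟩
  have hV := gen_mem_of_mem hW hy hyV
  have hu : IsUnit (rs hij (T.R i j)) := IsUnit.of_mul_eq_one (rs hji (T.R j i))
    (ext_of_val hW hVW fun hη => by
      rw [map_mul, map_one, val_rs, val_rs]
      exact T.v_mul_v hηU i j (hij hη))
  have := unitAt_val hW hy hyV (hu.map (X.presheaf.germ V y hyV).hom)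
  rwa [val_rs] at this

open Classical in
/-- The coefficient of the chart at a point in a fixed one. -/
noncomputable def cf (i₀ : ι) (p : PrimeSpectrum Γ(X, W)) : FractionRing Γ(X, W) :=
  if h : (∃ i, hW.fromSpec p ∈ T.N i) ∧ gen hW ∈ T.N i₀ then
    T.v h.1.choose i₀ ⟨gen_mem_of_mem hW (fromSpec_mem hW p) h.1.choose_spec, h.2⟩
  else 0

/-- The rational function attached to a covered point by the prime `p`. -/
def Fits (i₀ : ι) (h₀ : gen hW ∈ T.N i₀) (h : FractionRing Γ(X, W)) {y : X} (hy : y ∈ W) : Prop :=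
  ∀ (i : ι) (hi : y ∈ T.N i), UnitAt (pt hW hy) (h / T.v i i₀ ⟨gen_mem_of_mem hW hy hi, h₀⟩)

include hηU in
theorem v_ne_zero (i j : ι) (h : gen hW ∈ T.N i ⊓ T.N j) : T.v i j h ≠ 0 :=
  fun h' => zero_ne_one ((zero_mul _).symm.trans (h' ▸ T.v_mul_v hηU i j h))

include hηU in
theorem fits_of_one (i₀ : ι) (h₀ : gen hW ∈ T.N i₀) (h : FractionRing Γ(X, W)) {y : X} (hy : y ∈ W)
    (i : ι) (hi : y ∈ T.N i)
    (hu : UnitAt (pt hW hy) (h / T.v i i₀ ⟨gen_mem_of_mem hW hy hi, h₀⟩)) :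
    T.Fits i₀ h₀ h hy := by
  intro j hj
  have h1 := T.unitAt_v hηU i j hy hi hj
  convert hu.mul h1 using 1
  rw [T.v_mul hηU i j i₀ ⟨gen_mem_of_mem hW hy hi, gen_mem_of_mem hW hy hj⟩
    ⟨gen_mem_of_mem hW hy hj, h₀⟩]
  have := T.v_ne_zero hηU i j ⟨gen_mem_of_mem hW hy hi, gen_mem_of_mem hW hy hj⟩
  have := T.v_ne_zero hηU j i₀ ⟨gen_mem_of_mem hW hy hj, h₀⟩
  field_simp

include hηU in
/-- Common hypotheses of the algebraic lemma. -/
theorem fit_data (i₀ : ι) (h₀ : gen hW ∈ T.N i₀) :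
    let C : Set (PrimeSpectrum Γ(X, W)) := {p | ∃ i, hW.fromSpec p ∈ T.N i}
    (∀ p p', p' ≤ p → p ∈ C → p' ∈ C) ∧ (⊥ : PrimeSpectrum Γ(X, W)) ∈ C ∧
      (∀ p ∈ C, T.cf (hW := hW) i₀ p ≠ 0) ∧
      (∀ p ∈ C, ∃ f ∉ p.asIdeal, ∀ p' ∈ C, f ∉ p'.asIdeal →
        UnitAt p' (T.cf (hW := hW) i₀ p / T.cf (hW := hW) i₀ p')) ∧
      ∀ h p, (∃ i, hW.fromSpec p ∈ T.N i) → UnitAt p (h / T.cf (hW := hW) i₀ p) →
        T.Fits i₀ h₀ h (fromSpec_mem hW p) := by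
  intro C
  have hcf : ∀ p ∈ C, ∃ i, ∃ hi : hW.fromSpec p ∈ T.N i,
      T.cf (hW := hW) i₀ p = T.v i i₀ ⟨gen_mem_of_mem hW (fromSpec_mem hW p) hi, h₀⟩ := by
    intro p hp
    refine ⟨_, (⟨hp, h₀⟩ : (∃ i, hW.fromSpec p ∈ T.N i) ∧ gen hW ∈ T.N i₀).1.choose_spec, ?_⟩
    exact dif_pos ⟨hp, h₀⟩
  refine ⟨fun p p' hle ⟨i, hi⟩ => ⟨i, (fromSpec_specializes hW hle).mem_open (T.N i).isOpen hi⟩,
    ⟨i₀, h₀⟩, fun p hp => ?_, fun p hp => ?_, fun h p hp hu => ?_⟩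
  · obtain ⟨i, hi, e⟩ := hcf p hp
    rw [e]
    exact T.v_ne_zero hηU _ _ _
  · obtain ⟨i, hi, e⟩ := hcf p hp
    obtain ⟨f, hf, hfN⟩ : ∃ f ∉ p.asIdeal, ∀ p' : PrimeSpectrum Γ(X, W), f ∉ p'.asIdeal →
        hW.fromSpec p' ∈ T.N i := by
      obtain ⟨_, ⟨f, rfl⟩, hpf, hfN⟩ := PrimeSpectrum.isTopologicalBasis_basic_opens.exists_subset_of_mem_open
        (show p ∈ hW.fromSpec ⁻¹' (T.N i : Set X) from hi)
        ((T.N i).isOpen.preimage hW.fromSpec.continuous)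
      exact ⟨f, hpf, fun p' hp' => hfN hp'⟩
    refine ⟨f, hf, fun p' hp' hfp' => ?_⟩
    obtain ⟨j, hj, e'⟩ := hcf p' hp'
    have hy := fromSpec_mem hW p'
    have hi' := hfN p' hfp'
    rw [e, e']
    have h1 := T.unitAt_v hηU i j hy hi' hj
    rw [pt_fromSpec] at h1
    convert h1 using 1
    rw [T.v_mul hηU i j i₀ ⟨gen_mem_of_mem hW hy hi', gen_mem_of_mem hW hy hj⟩
      ⟨gen_mem_of_mem hW hy hj, h₀⟩]
    have := T.v_ne_zero hηU j i₀ ⟨gen_mem_of_mem hW hy hj, h₀⟩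
    field_simp
  · obtain ⟨i, hi, e⟩ := hcf p hp
    refine T.fits_of_one hηU i₀ h₀ h (fromSpec_mem hW p) i hi ?_
    rw [pt_fromSpec, ← e]
    exact hu

theorem fits_congr (i₀ : ι) (h₀ : gen hW ∈ T.N i₀) (h : FractionRing Γ(X, W)) {y y' : X}
    (e : y = y') {hy : y ∈ W} {hy' : y' ∈ W} (hf : T.Fits i₀ h₀ h hy) : T.Fits i₀ h₀ h hy' := by
  subst e; exact hf

include hηU in
theorem exists_fit_global [UniqueFactorizationMonoid Γ(X, W)] (i₀ : ι) (h₀ : gen hW ∈ T.N i₀) :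
    ∃ h : FractionRing Γ(X, W), ∀ (y : X) (hy : y ∈ W), T.Fits i₀ h₀ h hy := by
  obtain ⟨hgen, hbot, hc0, hloc, hfit⟩ := T.fit_data hηU i₀ h₀
  obtain ⟨h, -, hh⟩ := exists_fit _ hgen _ hbot hc0 hloc
  refine ⟨h, fun y hy i hi => ?_⟩
  have hC : ∃ i, hW.fromSpec (pt hW hy) ∈ T.N i := ⟨i, by rw [fromSpec_pt]; exact hi⟩
  exact T.fits_congr i₀ h₀ h (fromSpec_pt hW hy) (hfit h _ hC (hh _ hC)) i hi

include hηU in
theorem exists_fit_local {x : X} (hx : x ∈ W) [UniqueFactorizationMonoid (X.presheaf.stalk x)]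
    (i₀ : ι) (h₀ : gen hW ∈ T.N i₀) :
    ∃ h : FractionRing Γ(X, W), ∀ (y : X) (hy : y ∈ W), y ⤳ x → T.Fits i₀ h₀ h hy := by
  obtain ⟨hgen, hbot, hc0, hloc, hfit⟩ := T.fit_data hηU i₀ h₀
  obtain ⟨_, _, _, _, _, _⟩ := exists_stalk_algebra hW hx
  obtain ⟨h, -, hh⟩ := exists_fit_atPrime (pt hW hx) (S := X.presheaf.stalk x) _ hgen _ hbot hc0 hloc
  refine ⟨h, fun y hy hyx i hi => ?_⟩
  have hC : ∃ i, hW.fromSpec (pt hW hy) ∈ T.N i := ⟨i, by rw [fromSpec_pt]; exact hi⟩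
  exact T.fits_congr i₀ h₀ h (fromSpec_pt hW hy) (hfit h _ hC (hh _ hC (pt_mono hW hy hx hyx))) i hi

include hηU in
/-- A fitting rational function gives one more generator. -/
theorem exists_section (i₀ : ι) (h₀ : gen hW ∈ T.N i₀) (h : FractionRing Γ(X, W)) {N : X.Opens}
    (hN : N ≤ W) (hfit : ∀ (y : X) (hy : y ∈ N), T.Fits i₀ h₀ h (hN hy)) :
    ∃ t : Γ(M, N ⊓ ⨆ i, T.N i),
      (∀ (i : ι) (V : X.Opens) (hV : V ≤ N ⊓ ⨆ i, T.N i) (hVi : V ≤ T.N i),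
        ∃ u : Γ(X, V), IsUnit u ∧ resM M hV t = u • resM M hVi (T.t i)) := by
  have hu : ∀ i, ∃ u : Γ(X, N ⊓ T.N i), IsUnit u ∧
      ∀ hη : gen hW ∈ N ⊓ T.N i, val hW _ hη u = h / T.v i i₀ ⟨hη.2, h₀⟩ := by
    intro i
    by_cases hη : gen hW ∈ N ⊓ T.N i
    · obtain ⟨u, hu, e⟩ := exists_unit_glue hW (V := N ⊓ T.N i) (z := h / T.v i i₀ ⟨hη.2, h₀⟩)
        (inf_le_left.trans hN) fun y hy => hfit y hy.1 i hy.2
      exact ⟨u, hu, fun hη' => e hη'⟩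
    · exact ⟨1, isUnit_one, fun h' => absurd h' hη⟩
  choose u hu hval using hu
  have hcov : N ⊓ ⨆ i, T.N i ≤ ⨆ i, N ⊓ T.N i := (inf_iSup_eq _ _).le
  have hcompat : ∀ i j, resM M (inf_le_left : (N ⊓ T.N i) ⊓ (N ⊓ T.N j) ≤ N ⊓ T.N i)
        (u i • resM M inf_le_right (T.t i)) =
      resM M inf_le_right (u j • resM M inf_le_right (T.t j)) := by
    intro i j
    rw [resM_smul, resM_smul, resM_resM, resM_resM]
    set V := (N ⊓ T.N i) ⊓ (N ⊓ T.N j)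
    have hij : V ≤ T.N i ⊓ T.N j :=
      le_inf (inf_le_left.trans inf_le_right) (inf_le_right.trans inf_le_right)
    rw [T.R_res i j hij, ← mul_smul]
    refine congrArg (· • _) (ext_of_val hW ((inf_le_left.trans inf_le_left).trans hN) fun hη => ?_)
    rw [map_mul, val_rs, val_rs, val_rs, hval, hval,
      T.v_mul hηU i j i₀ (hij hη) ⟨hη.2.2, h₀⟩]
    have h1 := T.v_ne_zero hηU i j (hij hη)
    have h2 := T.v_ne_zero hηU j i₀ ⟨hη.2.2, h₀⟩
    change h / (T.v i j (hij hη) * T.v j i₀ _) * T.v i j (hij hη) = h / T.v j i₀ _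
    field_simp
  obtain ⟨t, ht, -⟩ := TopCat.Sheaf.existsUnique_gluing' (⟨M.presheaf, M.isSheaf⟩ : TopCat.Sheaf Ab X)
    (fun i => N ⊓ T.N i) (N ⊓ ⨆ i, T.N i)
    (fun i => homOfLE (inf_le_inf_left N (le_iSup T.N i))) hcov
    (fun i => u i • resM M inf_le_right (T.t i)) hcompat
  refine ⟨t, fun i V hV hVi => ⟨rs (le_inf (hV.trans inf_le_left) hVi) (u i), (hu i).map _, ?_⟩⟩
  have := congrArg (resM M (le_inf (hV.trans inf_le_left) hVi))
    (show resM M (inf_le_inf_left N (le_iSup T.N i)) t = _ from ht i)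
  rwa [resM_resM, resM_smul, resM_resM] at this

end Atlas

end Groth.Agent.UfdExt24
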