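import Groth.Agent.UfdExt24.Dense
import Groth.Agent.UfdExt24.Charts

/-!
# Invertible modules on opens of factorial affine schemes are trivial
-/

set_option autoImplicit false

universe u

open CategoryTheory AlgebraicGeometry Opposite TopologicalSpace
open Groth.Agent.PicLib Groth.Agent.Coherent

namespace Groth.Agent.UfdExt24

variable {X : Scheme.{u}}

theorem exists_gen_of_affine_ufd {W : X.Opens} (hW : IsAffineOpen W) [IsDomain Γ(X, W)]
    [UniqueFactorizationMonoid Γ(X, W)] {U : X.Opens} (hUW : U ≤ W) (M : X.Modules)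
    (hgens : ∀ y ∈ U, ∃ V : X.Opens, y ∈ V ∧ V ≤ U ∧ ∃ s : Γ(M, V), IsGen M V s) :
    ∃ s : Γ(M, U), IsGen M U s := by
  choose V hyV hVU s hs using fun y : U => hgens y y.2
  rcases isEmpty_or_nonempty U with hU | ⟨⟨y₀⟩⟩
  · have hsub : ∀ Y : X.Opens, Y ≤ U → Y = ⊥ := fun Y hY =>
      eq_bot_iff.2 fun z hz => (hU.false ⟨z, hY hz⟩).elim
    refine ⟨0, fun Y hY => ⟨fun a b _ => ?_, fun z => ⟨0, ?_⟩⟩⟩
    · refine TopCat.Sheaf.eq_of_locally_eq' X.sheaf (fun i : PEmpty.{1} => i.elim) Y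
        (fun i => i.elim) ((hsub Y hY).le.trans bot_le) _ _ fun i => i.elim
    · exact TopCat.Sheaf.eq_of_locally_eq' (⟨M.presheaf, M.isSheaf⟩ : TopCat.Sheaf Ab X)
        (fun i : PEmpty.{1} => i.elim) Y (fun i => i.elim) ((hsub Y hY).le.trans bot_le) _ _
        fun i => i.elim
  let T : Atlas M U U :=
    { N := V
      t := s
      isGen := fun i => (hs i).restrict inf_le_left
      comp := fun i j => ⟨(hs j).coef inf_le_right _, ((hs j).coef_spec inf_le_right _).symm⟩ }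
  have hηU : gen hW ∈ U := gen_mem_of_mem hW (hUW y₀.2) y₀.2
  have hη₀ : gen hW ∈ V ⟨gen hW, hηU⟩ := hyV ⟨gen hW, hηU⟩
  obtain ⟨h, hh⟩ := T.exists_fit_global hηU ⟨gen hW, hηU⟩ hη₀
  obtain ⟨t, ht⟩ := T.exists_section hηU ⟨gen hW, hηU⟩ hη₀ h le_rfl fun y hy => hh y hy
  have hsup : (⨆ i, V i) ≤ U := iSup_le hVU
  have hle : U ≤ W ⊓ ⨆ i, T.N i := le_inf hUW fun y hy => Opens.mem_iSup.2 ⟨⟨y, hy⟩, hyV _⟩
  refine ⟨resM M hle t, isGen_of_cover V hVU (fun y hy => Opens.mem_iSup.2 ⟨⟨y, hy⟩, hyV _⟩)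
    fun i => ?_⟩
  obtain ⟨u, hu, e⟩ := ht i (V i) ((hVU i).trans hle) le_rfl
  have e' : resM M ((hVU i).trans hle) t = u • resM M le_rfl (s i) := e
  rw [resM_resM, e', resM_self]
  have := (hs i).smul_unit hu.unit
  rwa [IsUnit.unit_spec] at this

theorem nonempty_iso_structureModule_of_gen {U : X.Opens} {L : U.toScheme.Modules}
    {s : Γ((Scheme.Modules.pushforward U.ι).obj L, U)} (hs : IsGen _ U s) :
    Nonempty (L ≅ Coh.structureModule U.toScheme) := by
  obtain ⟨e⟩ := nonempty_restrict_iso hs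
  exact ⟨((asIso (Scheme.Modules.restrictAdjunction U.ι).counit).app L).symm ≪≫ e⟩

end Groth.Agent.UfdExt24
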