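import Mathlib.CategoryTheory.Preadditive.Biproducts
import Groth.Prelude.Def_PicLoc
import Groth.Agent.PicLib.Invertible

/-!
# Extending an invertible module to a dense open
-/

set_option autoImplicit false

universe u

open CategoryTheory CategoryTheory.Limits AlgebraicGeometry Opposite TopologicalSpace
open Groth.Agent.PicLib Groth.Agent.Coherent

namespace Groth.Agent.UfdExt24

variable {X : Scheme.{u}}

theorem exists_isGen_push {U : X.Opens} {L : U.toScheme.Modules} (hL : PicF.IsInvertible L) {y : X}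
    (hy : y ∈ U) :
    ∃ V : X.Opens, y ∈ V ∧ V ≤ U ∧
      ∃ s : Γ((Scheme.Modules.pushforward U.ι).obj L, V), IsGen _ V s := by
  obtain ⟨V', hy', s, hs⟩ := exists_isGen hL (⟨y, hy⟩ : U)
  have hle : U.ι ''ᵁ V' ≤ U := by
    intro z hz
    obtain ⟨w, -, rfl⟩ := hz
    exact w.2
  refine ⟨U.ι ''ᵁ V', ⟨_, hy', rfl⟩, hle, resM L (U.ι.preimage_image_eq V').le s, fun W hW => ?_⟩
  have hW' : U.ι ⁻¹ᵁ W ≤ V' :=
    ((U.ι.preimage_mono) hW).trans (U.ι.preimage_image_eq V').le
  have hiso : IsIso (U.ι.app W) := by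
    refine Scheme.Hom.isIso_app U.ι W ?_
    rw [Scheme.Opens.opensRange_ι]
    exact hW.trans hle
  refine Eq.subst (motive := Function.Bijective) ?_
    ((hs _ hW').comp (ConcreteCategory.bijective_of_isIso (U.ι.app W)))
  funext r
  show U.ι.app W r • resM L hW' s =
    U.ι.app W r • resM L (U.ι.preimage_mono hW) (resM L (U.ι.preimage_image_eq V').le s)
  rw [resM_resM]

theorem bijective_res_push {U : X.Opens} (L : U.toScheme.Modules) {V V' : X.Opens} (h : V' ≤ V)
    (hU : U.ι ⁻¹ᵁ V ≤ U.ι ⁻¹ᵁ V') :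
    Function.Bijective (resM ((Scheme.Modules.pushforward U.ι).obj L) h) := by
  have e : ∀ x : Γ(L, U.ι ⁻¹ᵁ V), resM ((Scheme.Modules.pushforward U.ι).obj L) h x =
      resM L (U.ι.preimage_mono h) x := fun x => rfl
  constructor
  · intro a b hab
    have := congrArg (resM L hU) ((e a).symm.trans (hab.trans (e b)))
    rwa [resM_resM, resM_resM, resM_self, resM_self] at this
  · intro x
    refine ⟨resM L hU x, (e _).trans ?_⟩
    exact (resM_resM L hU (U.ι.preimage_mono h) x).trans (resM_self L _ x)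

/-- An invertible module on an open extends to a module on `X` which is invertible on a dense open and
has sections determined there. -/
theorem exists_dense_extension (U : X.Opens) (L : U.toScheme.Modules) (hL : PicF.IsInvertible L) :
    ∃ (U₁ : X.Opens) (M : X.Modules), U ≤ U₁ ∧ Dense (U₁ : Set X) ∧
      (∀ y ∈ U₁, ∃ V : X.Opens, y ∈ V ∧ V ≤ U₁ ∧ ∃ s : Γ(M, V), IsGen M V s) ∧
      (∀ V : X.Opens, Function.Bijective (resM M (inf_le_left : V ⊓ U₁ ≤ V))) ∧
      Nonempty (M.restrict U.ι ≅ L) := by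
  let C : X.Opens := ⟨(closure (U : Set X))ᶜ, isClosed_closure.isOpen_compl⟩
  have hUC : ∀ y, y ∈ U → y ∉ C := fun y hy hyC => hyC (subset_closure hy)
  let A := (Scheme.Modules.pushforward U.ι).obj L
  let B := (Scheme.Modules.pushforward C.ι).obj (Coh.structureModule C.toScheme)
  let M : X.Modules := A ⊞ B
  have htot : ∀ (V : X.Opens) (z : Γ(M, V)),
      (biprod.inl : A ⟶ M).app V ((biprod.fst : M ⟶ A).app V z) +
        (biprod.inr : B ⟶ M).app V ((biprod.snd : M ⟶ B).app V z) = z := by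
    intro V z
    exact congrArg (fun φ : M ⟶ M => φ.app V z) (biprod.total (X := A) (Y := B))
  have hfst : ∀ (V : X.Opens) (a : Γ(A, V)),
      (biprod.fst : M ⟶ A).app V ((biprod.inl : A ⟶ M).app V a) = a := fun V a =>
    congrArg (fun φ : A ⟶ A => φ.app V a) (biprod.inl_fst (X := A) (Y := B))
  have hsnd : ∀ (V : X.Opens) (b : Γ(B, V)),
      (biprod.snd : M ⟶ B).app V ((biprod.inr : B ⟶ M).app V b) = b := fun V b =>
    congrArg (fun φ : B ⟶ B => φ.app V b) (biprod.inr_snd (X := A) (Y := B))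
  have zero_of_empty : ∀ {Y : Scheme.{u}} (N : Y.Modules) (V : Y.Opens), V = ⊥ →
      ∀ a : Γ(N, V), a = 0 := by
    intro Y N V hV a
    refine TopCat.Sheaf.eq_of_locally_eq' (⟨N.presheaf, N.isSheaf⟩ : TopCat.Sheaf Ab Y)
      (fun i : PEmpty.{1} => i.elim) V (fun i => i.elim) (hV.le.trans bot_le) _ _ fun i => i.elim
  have hB0 : ∀ V : X.Opens, V ≤ U → ∀ b : Γ(B, V), b = 0 := fun V hV b =>
    zero_of_empty (Coh.structureModule C.toScheme) (C.ι ⁻¹ᵁ V)
      (eq_bot_iff.2 fun w hw => hUC _ (hV hw) w.2) b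
  have hA0 : ∀ V : X.Opens, V ≤ C → ∀ a : Γ(A, V), a = 0 := fun V hV a =>
    zero_of_empty L (U.ι ⁻¹ᵁ V) (eq_bot_iff.2 fun w hw => hUC _ w.2 (hV hw)) a
  have hinl : ∀ V : X.Opens, V ≤ U → Function.Bijective ((biprod.inl : A ⟶ M).app V) := fun V hV =>
    ⟨fun a b e => by rw [← hfst V a, ← hfst V b, e], fun z => ⟨(biprod.fst : M ⟶ A).app V z, by
      conv_rhs => rw [← htot V z, hB0 V hV ((biprod.snd : M ⟶ B).app V z), map_zero, add_zero]⟩⟩
  have hinr : ∀ V : X.Opens, V ≤ C → Function.Bijective ((biprod.inr : B ⟶ M).app V) := fun V hV =>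
    ⟨fun a b e => by rw [← hsnd V a, ← hsnd V b, e], fun z => ⟨(biprod.snd : M ⟶ B).app V z, by
      conv_rhs => rw [← htot V z, hA0 V hV ((biprod.fst : M ⟶ A).app V z), map_zero, zero_add]⟩⟩
  have hgen : ∀ {F : X.Modules} (φ : F ⟶ M) {V : X.Opens} {s : Γ(F, V)}, IsGen F V s →
      (∀ W ≤ V, Function.Bijective (φ.app W)) → IsGen M V (φ.app V s) := by
    intro F φ V s hs hb W hW
    refine Eq.subst (motive := Function.Bijective) ?_ ((hb W hW).comp (hs W hW))
    funext r
    show φ.app W (r • resM F hW s) = r • resM M hW (φ.app V s)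
    rw [Scheme.Modules.Hom.app_smul, app_resM]
  refine ⟨U ⊔ C, M, le_sup_left, ?_, ?_, fun V => ?_, ?_⟩
  · intro x
    by_cases hx : x ∈ closure (U : Set X)
    · exact closure_mono (fun y hy => Or.inl hy) hx
    · exact subset_closure (Or.inr hx)
  · intro y hy
    rcases hy with hy | hy
    · obtain ⟨V, hyV, hVU, s, hs⟩ := exists_isGen_push hL hy
      exact ⟨V, hyV, hVU.trans le_sup_left, _,
        hgen biprod.inl hs fun W hW => hinl W (hW.trans hVU)⟩
    · obtain ⟨V, hyV, hVC, s, hs⟩ :=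
        exists_isGen_push (PicLoc.isInvertible_structureModule C.toScheme) hy
      exact ⟨V, hyV, hVC.trans le_sup_right, _,
        hgen biprod.inr hs fun W hW => hinr W (hW.trans hVC)⟩
  · have hbA : Function.Bijective (resM A (inf_le_left : V ⊓ (U ⊔ C) ≤ V)) :=
      bijective_res_push L _ fun w hw => ⟨hw, Or.inl w.2⟩
    have hbB : Function.Bijective (resM B (inf_le_left : V ⊓ (U ⊔ C) ≤ V)) :=
      bijective_res_push (Coh.structureModule C.toScheme) _ fun w hw => ⟨hw, Or.inr w.2⟩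
    constructor
    · intro a b hab
      rw [← htot V a, ← htot V b]
      congr 2
      · refine hbA.1 ?_
        rw [← app_resM, ← app_resM, hab]
      · refine hbB.1 ?_
        rw [← app_resM, ← app_resM, hab]
    · intro z
      obtain ⟨a, ha⟩ := hbA.2 ((biprod.fst : M ⟶ A).app _ z)
      obtain ⟨b, hb⟩ := hbB.2 ((biprod.snd : M ⟶ B).app _ z)
      refine ⟨(biprod.inl : A ⟶ M).app V a + (biprod.inr : B ⟶ M).app V b, ?_⟩
      rw [map_add, ← app_resM, ← app_resM, ha, hb, htot]
  · let φ : M.restrict U.ι ⟶ A.restrict U.ι :=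
      (Scheme.Modules.restrictFunctor U.ι).map (biprod.fst : M ⟶ A)
    have : IsIso φ := by
      rw [Scheme.Modules.Hom.isIso_iff_isIso_app]
      intro W
      rw [ConcreteCategory.isIso_iff_bijective]
      have hW : U.ι ''ᵁ W ≤ U := by
        intro z hz
        obtain ⟨w, -, rfl⟩ := hz
        exact w.2
      have hb := hinl _ hW
      show Function.Bijective ((biprod.fst : M ⟶ A).app (U.ι ''ᵁ W))
      exact ⟨fun a b e => by
        obtain ⟨a, rfl⟩ := hb.2 a
        obtain ⟨b, rfl⟩ := hb.2 b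
        rw [hfst, hfst] at e
        rw [e], fun a => ⟨_, hfst _ a⟩⟩
    exact ⟨asIso φ ≪≫ (asIso (Scheme.Modules.restrictAdjunction U.ι).counit).app L⟩

end Groth.Agent.UfdExt24
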