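import Mathlib.Order.Zorn
import Mathlib.AlgebraicGeometry.SpreadingOut
import Mathlib.AlgebraicGeometry.Noetherian
import Mathlib.Algebra.Category.ModuleCat.Presheaf.Submodule
import Groth.Agent.UfdExt24.Charts

/-!
# Extending invertible modules across points with factorial local rings
-/

set_option autoImplicit false

universe u

open CategoryTheory AlgebraicGeometry Opposite TopologicalSpace
open Groth.Agent.PicLib Groth.Agent.Coherent

namespace Groth.Agent.UfdExt24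

theorem isDomain_of_ufd (R : Type u) [CommRing R] [Nontrivial R] [UniqueFactorizationMonoid R] :
    IsDomain R :=
  { }

/-- In a Noetherian quasi-sober space the closure of the trace of a closed set on an open set is made of
specialisations of its points. -/
theorem exists_mem_specializes {Y : Type u} [TopologicalSpace Y] [NoetherianSpace Y] [QuasiSober Y]
    {O K : Set Y} (hO : IsOpen O) (hK : IsClosed K) {x : Y} (hx : x ∈ closure (O ∩ K)) :
    ∃ g ∈ O ∩ K, g ⤳ x := by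
  obtain ⟨S, hSf, hSc, hSi, hSU⟩ :=
    NoetherianSpace.exists_finite_set_isClosed_irreducible (isClosed_closure (s := O ∩ K))
  let S' := {Z ∈ S | (Z ∩ O).Nonempty}
  have hsub : O ∩ K ⊆ ⋃₀ S' := by
    intro b hb
    have : b ∈ ⋃₀ S := hSU ▸ subset_closure hb
    obtain ⟨Z, hZ, hbZ⟩ := this
    exact ⟨Z, ⟨hZ, b, hbZ, hb.1⟩, hbZ⟩
  have hS'f : S'.Finite := hSf.subset fun Z hZ => hZ.1
  have hcl : IsClosed (⋃₀ S') := by
    rw [Set.sUnion_eq_biUnion]
    exact hS'f.isClosed_biUnion fun Z hZ => hSc Z hZ.1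
  obtain ⟨Z, ⟨hZ, b, hbZ, hbO⟩, hxZ⟩ := closure_minimal hsub hcl hx
  obtain ⟨g, hg⟩ := QuasiSober.sober (hSi Z hZ) (hSc Z hZ)
  have hgO : g ∈ O := (hg.specializes hbZ).mem_open hO hbO
  have hgK : g ∈ closure (O ∩ K) := hSU ▸ ⟨Z, hZ, hg.mem⟩
  exact ⟨g, ⟨hgO, closure_minimal Set.inter_subset_right hK hgK⟩, hg.specializes hxZ⟩

variable {X : Scheme.{u}}

theorem exists_domain_nhd [IsLocallyNoetherian X] {x : X} [IsDomain (X.presheaf.stalk x)]
    {V : X.Opens} (hx : x ∈ V) :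
    ∃ W : X.Opens, x ∈ W ∧ IsAffineOpen W ∧ W ≤ V ∧ IsDomain Γ(X, W) := by
  obtain ⟨W, hxW, hW, hWV, hinj⟩ := X.exists_le_and_germ_injective x V hx
  exact ⟨W, hxW, hW, hWV, hinj.isDomain (X.presheaf.germ W x hxW).hom⟩

theorem gen_mem_of_dense {W : X.Opens} (hW : IsAffineOpen W) [IsDomain Γ(X, W)] {U₁ : X.Opens}
    (hd : Dense (U₁ : Set X)) {x : X} (hx : x ∈ W) : gen hW ∈ U₁ := by
  obtain ⟨y, hyW, hyU⟩ := hd.inter_open_nonempty W W.isOpen ⟨x, hx⟩
  exact gen_mem_of_mem hW hyW hyU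

/-- Restriction to a dense open is injective when the local rings outside are domains. -/
theorem res_injective_of_dense [IsLocallyNoetherian X] {U₁ : X.Opens} (hd : Dense (U₁ : Set X))
    (hdom : ∀ x : X, x ∉ U₁ → IsDomain (X.presheaf.stalk x)) (V : X.Opens) :
    Function.Injective (rs (inf_le_left : V ⊓ U₁ ≤ V)) := by
  intro a b hab
  refine TopCat.Presheaf.section_ext X.sheaf V a b fun y hy => ?_
  show X.presheaf.germ V y hy a = X.presheaf.germ V y hy b
  by_cases hyU : y ∈ U₁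
  · rw [← germ_rs (inf_le_left : V ⊓ U₁ ≤ V) ⟨hy, hyU⟩, hab, germ_rs]
  · have := hdom y hyU
    obtain ⟨W, hyW, hW, hWV, _⟩ := exists_domain_nhd (V := V) hy
    rw [← germ_rs hWV hyW, ← germ_rs hWV hyW]
    refine congrArg _ (ext_of_val hW le_rfl fun hη => ?_)
    have hηU := gen_mem_of_dense hW hd hyW
    have h1 := congrArg (val hW (V ⊓ U₁) ⟨hWV hη, hηU⟩) hab
    rw [val_rs, val_rs] at h1
    rw [val_rs, val_rs]
    exact h1

/-- The charts of a module which is invertible on a dense open. -/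
abbrev Chart (M : X.Modules) : Type u := Σ N : X.Opens, Γ(M, N)

/-- One chart is a multiple of the other on the overlap. -/
def Compat {M : X.Modules} (c d : Chart M) : Prop :=
  ∃ r : Γ(X, c.1 ⊓ d.1), resM M inf_le_left c.2 = r • resM M inf_le_right d.2

/-- A compatible family of charts. -/
def IsFamily (M : X.Modules) (U₁ : X.Opens) (S : Set (Chart M)) : Prop :=
  (∀ c ∈ S, IsGen M (c.1 ⊓ U₁) (resM M inf_le_left c.2)) ∧ ∀ c ∈ S, ∀ d ∈ S, Compat c d

/-- The atlas of a compatible family. -/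
def atlas {M : X.Modules} {U₁ : X.Opens} {S : Set (Chart M)} (hS : IsFamily M U₁ S) :
    Atlas M U₁ S where
  N c := c.1.1
  t c := c.1.2
  isGen c := hS.1 c.1 c.2
  comp c d := hS.2 c.1 c.2 d.1 d.2

theorem compat_self {M : X.Modules} (c : Chart M) : Compat c c :=
  ⟨1, by rw [one_smul]⟩

theorem compat_of_gen {M : X.Modules} {c d : Chart M} {U₁ : X.Opens}
    (h : c.1 ⊓ d.1 ≤ U₁) (hd : IsGen M (d.1 ⊓ U₁) (resM M inf_le_left d.2)) : Compat c d := by
  obtain ⟨r, hr⟩ := (hd (c.1 ⊓ d.1) (le_inf inf_le_right h)).2 (resM M inf_le_left c.2)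
  refine ⟨r, hr.symm.trans ?_⟩
  show r • _ = r • _
  rw [resM_resM]

/-- A module with sections over `X` inside `M` generated by the charts. -/
def extSubmodule {M : X.Modules} (S : Set (Chart M)) : M.val.Submodule where
  obj V :=
    { carrier := {σ | ∀ c ∈ S, ∃ r : Γ(X, V.unop ⊓ c.1),
        resM M (inf_le_left : V.unop ⊓ c.1 ≤ V.unop) σ = r • resM M inf_le_right c.2}
      zero_mem' := fun c _ => ⟨0, (map_zero _).trans (zero_smul _ _).symm⟩
      add_mem' := fun {a b} ha hb c hc => by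
        obtain ⟨r, hr⟩ := ha c hc
        obtain ⟨r', hr'⟩ := hb c hc
        refine ⟨r + r', ?_⟩
        rw [add_smul, ← hr, ← hr']
        exact map_add (resM M _) a b
      smul_mem' := fun (a : Γ(X, V.unop)) (σ : Γ(M, V.unop)) hσ c hc => by
        obtain ⟨r, hr⟩ := hσ c hc
        refine ⟨rs inf_le_left a * r, ?_⟩
        show resM M inf_le_left (a • σ) = _
        rw [resM_smul, hr, mul_smul] }
  map {V V'} f σ hσ c hc := by
    obtain ⟨r, hr⟩ := hσ c hc
    refine ⟨rs (inf_le_inf_right c.1 f.unop.le) r, ?_⟩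
    show resM M inf_le_left (resM M f.unop.le σ) = _
    rw [resM_resM, ← resM_resM M (inf_le_left : V.unop ⊓ c.1 ≤ V.unop)
      (inf_le_inf_right c.1 f.unop.le), hr, resM_smul, resM_resM]

section Main

variable [IsLocallyNoetherian X] {M : X.Modules} {U₁ : X.Opens} (hd : Dense (U₁ : Set X))
  (hufd : ∀ x : X, x ∉ U₁ → UniqueFactorizationMonoid (X.presheaf.stalk x))
  (hgens : ∀ y ∈ U₁, ∃ V : X.Opens, y ∈ V ∧ V ≤ U₁ ∧ ∃ s : Γ(M, V), IsGen M V s)
  (hbij : ∀ V : X.Opens, Function.Bijective (resM M (inf_le_left : V ⊓ U₁ ≤ V)))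

include hd hufd hgens hbij

theorem mem_cover_of_maximal {S : Set (Chart M)} (hS : Maximal (IsFamily M U₁) S) (x : X) :
    ∃ c ∈ S, x ∈ c.1 := by
  have hadd : ∀ c : Chart M, IsGen M (c.1 ⊓ U₁) (resM M inf_le_left c.2) →
      (∀ d ∈ S, Compat c d ∧ Compat d c) → c ∈ S := by
    intro c hc hcd
    refine hS.2 ⟨?_, ?_⟩ (Set.subset_insert c S) (Set.mem_insert c S)
    · rintro e (rfl | he)
      exacts [hc, hS.1.1 e he]
    · rintro e (rfl | he) f (rfl | hf)
      exacts [compat_self _, (hcd f hf).1, (hcd e he).2, hS.1.2 e he f hf]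
  have hU : ∀ y ∈ U₁, ∃ c ∈ S, y ∈ c.1 := by
    intro y hy
    obtain ⟨V, hyV, hVU, s, hs⟩ := hgens y hy
    have hgenc : IsGen M ((⟨V, s⟩ : Chart M).1 ⊓ U₁) (resM M inf_le_left s) :=
      hs.restrict inf_le_left
    refine ⟨⟨V, s⟩, hadd _ hgenc fun d hd' =>
      ⟨compat_of_gen (inf_le_left.trans hVU) (hS.1.1 d hd'),
        compat_of_gen (inf_le_right.trans hVU) hgenc⟩, hyV⟩
  by_contra hx
  have hxU : x ∉ U₁ := fun h => hx (hU x h)
  have := hufd x hxU
  have := isDomain_of_ufd (X.presheaf.stalk x)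
  obtain ⟨W, hxW, hW, -, _⟩ := exists_domain_nhd (V := ⊤) (x := x) trivial
  let T := atlas hS.1
  have hηU := gen_mem_of_dense hW hd hxW
  obtain ⟨c₀, hc₀, hηc₀⟩ := hU _ hηU
  obtain ⟨h, hh⟩ := T.exists_fit_local hηU hxW ⟨c₀, hc₀⟩ hηc₀
  let O : Set W := {w : W | ∃ i : S, (w : X) ∈ T.N i}
  let G : Set W := {w : W | (∃ i : S, (w : X) ∈ T.N i) ∧ T.Fits ⟨c₀, hc₀⟩ hηc₀ h w.2}
  have hO : IsOpen O := by
    have : O = ⋃ i : S, Subtype.val ⁻¹' (T.N i : Set X) := Set.ext fun _ =>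
      ⟨fun ⟨i, hi⟩ => Set.mem_iUnion_of_mem i hi, fun h => (Set.mem_iUnion.1 h :)⟩
    rw [this]
    exact isOpen_iUnion fun i => (T.N i).isOpen.preimage continuous_subtype_val
  have hG : IsOpen G := by
    rw [isOpen_iff_forall_mem_open]
    rintro w ⟨⟨i, hi⟩, hw⟩
    obtain ⟨V, hVW, hwV, r, hr, hval⟩ := exists_unit_of_unitAt hW w.2 (hw i hi)
    refine ⟨Subtype.val ⁻¹' ((V ⊓ T.N i : X.Opens) : Set X), fun w' hw' => ⟨⟨i, hw'.2⟩, ?_⟩,
      (V ⊓ T.N i).isOpen.preimage continuous_subtype_val, hwV, hi⟩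
    refine T.fits_of_one hηU _ _ h w'.2 i hw'.2 ?_
    have h1 := unitAt_val hW w'.2 hw'.1 (hr.map (X.presheaf.germ V _ hw'.1).hom)
    rwa [hval] at h1
  have : IsNoetherianRing Γ(X, W) := IsLocallyNoetherian.component_noetherian ⟨W, hW⟩
  have : NoetherianSpace W := noetherianSpace_of_isAffineOpen W hW
  have : QuasiSober W := inferInstanceAs (QuasiSober W.toScheme)
  let N₀ : Set W := (closure (O ∩ Gᶜ))ᶜ
  let N : X.Opens := ⟨Subtype.val '' N₀, W.isOpen.isOpenMap_subtype_val _ isClosed_closure.isOpen_compl⟩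
  have hxN : x ∈ N := by
    refine ⟨⟨x, hxW⟩, fun hmem => ?_, rfl⟩
    obtain ⟨g, ⟨hgO, hgG⟩, hgx⟩ := exists_mem_specializes hO hG.isClosed_compl hmem
    exact hgG ⟨hgO, hh g.1 g.2 (hgx.map continuous_subtype_val)⟩
  have hNW : N ≤ W := by
    rintro _ ⟨w, -, rfl⟩
    exact w.2
  obtain ⟨t, ht⟩ := T.exists_section hηU ⟨c₀, hc₀⟩ hηc₀ h hNW fun y hy => by
    obtain ⟨w, hw, rfl⟩ := hy
    intro i hi
    have hwG : w ∈ G := by
      by_contra h'
      exact hw (subset_closure ⟨⟨i, hi⟩, h'⟩)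
    exact hwG.2 i hi
  have hcov : N ⊓ U₁ ≤ N ⊓ ⨆ i, T.N i := inf_le_inf_left N fun y hy => by
    obtain ⟨c, hc, hyc⟩ := hU y hy
    exact Opens.mem_iSup.2 ⟨⟨c, hc⟩, hyc⟩
  obtain ⟨t', ht'⟩ := (hbij N).2 (resM M hcov t)
  have ht'' : resM M (inf_le_left : N ⊓ ⨆ i, T.N i ≤ N) t' = t := by
    refine (hbij _).1 ?_
    have := congrArg (resM M (inf_le_inf_right U₁ (inf_le_left : N ⊓ (⨆ i, T.N i) ≤ N))) ht'
    rw [resM_resM, resM_resM] at this
    rw [resM_resM]
    exact this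
  have hcS : (⟨N, t'⟩ : Chart M) ∈ S := by
    refine hadd _ ?_ fun d hd' => ?_
    · refine isGen_of_cover (fun i : S => N ⊓ T.N i ⊓ U₁)
        (fun i => inf_le_inf_right U₁ inf_le_left) ?_ fun i => ?_
      · rintro y ⟨hyN, hyU⟩
        obtain ⟨c, hc, hyc⟩ := hU y hyU
        exact Opens.mem_iSup.2 ⟨⟨c, hc⟩, ⟨hyN, hyc⟩, hyU⟩
      · have h1 : N ⊓ T.N i ≤ N ⊓ ⨆ i, T.N i := inf_le_inf_left N (le_iSup T.N i)
        obtain ⟨u, hu, e⟩ := ht i (N ⊓ T.N i ⊓ U₁) (inf_le_left.trans h1) (inf_le_left.trans inf_le_right)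
        have e' : resM M ((inf_le_inf_right U₁ inf_le_left).trans inf_le_left :
            N ⊓ T.N i ⊓ U₁ ≤ N) t' = u • resM M (inf_le_left.trans inf_le_right) (T.t i) := by
          rw [← e, ← ht'', resM_resM]
        rw [resM_resM, e']
        have hg := ((T.isGen i).restrict (V := N ⊓ T.N i ⊓ U₁)
          (inf_le_inf_right U₁ inf_le_right)).smul_unit hu.unit
        rw [resM_resM, IsUnit.unit_spec] at hg
        exact hg
    · have h1 : N ⊓ d.1 ≤ N ⊓ ⨆ i, T.N i := inf_le_inf_left N (le_iSup T.N ⟨d, hd'⟩)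
      obtain ⟨u, hu, e⟩ := ht ⟨d, hd'⟩ (N ⊓ d.1) h1 inf_le_right
      have e' : resM M (inf_le_left : N ⊓ d.1 ≤ N) t' = u • resM M inf_le_right d.2 := by
        rw [← ht'', resM_resM] at e
        exact e
      refine ⟨⟨u, e'⟩, ⟨rs (inf_comm _ _).le (↑hu.unit⁻¹ : Γ(X, N ⊓ d.1)), ?_⟩⟩
      have := congrArg (fun z => resM M (inf_comm d.1 N).le ((↑hu.unit⁻¹ : Γ(X, N ⊓ d.1)) • z)) e'
      rw [← mul_smul, IsUnit.val_inv_mul, one_smul, resM_smul, resM_resM, resM_resM] at this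
      exact this.symm
  exact hx ⟨_, hcS, hxN⟩

theorem exists_invertible_extension :
    ∃ (L' : X.Modules) (φ : L' ⟶ M), PicF.IsInvertible L' ∧
      ∀ V : X.Opens, V ≤ U₁ → Function.Bijective (φ.app V) := by
  obtain ⟨S, hS⟩ := zorn_subset {S | IsFamily M U₁ S} fun C hC hchain => by
    refine ⟨⋃₀ C, ⟨?_, ?_⟩, fun s hs => Set.subset_sUnion_of_mem hs⟩
    · rintro c ⟨s, hs, hcs⟩
      exact (hC hs).1 c hcs
    · rintro c ⟨s, hs, hcs⟩ d ⟨s', hs', hds⟩
      rcases hchain.total hs hs' with h | h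
      exacts [(hC hs').2 c (h hcs) d hds, (hC hs).2 c hcs d (h hds)]
  have hcov := mem_cover_of_maximal hd hufd hgens hbij hS
  let P := extSubmodule S
  have hinj : ∀ c ∈ S, ∀ (V : X.Opens) (hV : V ≤ c.1) (a b : Γ(X, V)),
      a • resM M hV c.2 = b • resM M hV c.2 → a = b := by
    intro c hc V hV a b h
    refine res_injective_of_dense hd (fun x hx => have := hufd x hx; isDomain_of_ufd _) V ?_
    refine (atlas hS.1).smul_injective ⟨c, hc⟩ (inf_le_left.trans hV) inf_le_right ?_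
    have := congrArg (resM M (inf_le_left : V ⊓ U₁ ≤ V)) h
    rwa [resM_smul, resM_smul, resM_resM] at this
  have hsheaf : TopCat.Presheaf.IsSheaf P.toPresheafOfModules.presheaf := by
    rw [TopCat.Presheaf.isSheaf_iff_isSheafUniqueGluing]
    intro κ U sf hsf
    let sf' : ∀ i, Γ(M, U i) := fun i => (show P.obj (op (U i)) from sf i).1
    have hM := TopCat.Sheaf.existsUnique_gluing (⟨M.presheaf, M.isSheaf⟩ : TopCat.Sheaf Ab X) U
      sf' fun i j => congrArg Subtype.val (hsf i j)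
    obtain ⟨σ, hσ, huniq⟩ := hM
    have hloc : ∀ i, resM M (le_iSup U i) σ = sf' i := fun i => hσ i
    have hmem : σ ∈ P.obj (op (iSup U)) := by
      intro c hc
      choose r hr using fun i => (show P.obj (op (U i)) from sf i).2 c hc
      have hr' : ∀ i, resM M ((inf_le_inf_right c.1 (le_iSup U i)).trans inf_le_left) σ =
          (r i : Γ(X, U i ⊓ c.1)) • resM M inf_le_right c.2 := fun i => by
        rw [← resM_resM M (le_iSup U i) inf_le_left σ, hloc]
        exact hr i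
      obtain ⟨R, hR⟩ : ∃ R : Γ(X, iSup U ⊓ c.1),
          ∀ i, rs (inf_le_inf_right c.1 (le_iSup U i)) R = r i := (TopCat.Sheaf.existsUnique_gluing' X.sheaf (fun i => U i ⊓ c.1)
        (iSup U ⊓ c.1) (fun i => homOfLE (inf_le_inf_right c.1 (le_iSup U i)))
        (iSup_inf_eq _ _).le r fun i j => hinj c hc _ (inf_le_left.trans inf_le_right) _ _ (by
          have hi := congrArg (resM M (inf_le_left : (U i ⊓ c.1) ⊓ (U j ⊓ c.1) ≤ U i ⊓ c.1)) (hr' i)
          have hj := congrArg (resM M (inf_le_right : (U i ⊓ c.1) ⊓ (U j ⊓ c.1) ≤ U j ⊓ c.1)) (hr' j)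
          rw [resM_resM, resM_smul, resM_resM] at hi hj
          exact hi.symm.trans hj)).exists
      refine ⟨R, TopCat.Sheaf.eq_of_locally_eq' (⟨M.presheaf, M.isSheaf⟩ : TopCat.Sheaf Ab X)
        (fun i => U i ⊓ c.1) (iSup U ⊓ c.1) (fun i => homOfLE (inf_le_inf_right c.1 (le_iSup U i)))
        (iSup_inf_eq _ _).le _ _ fun i => ?_⟩
      show resM M (inf_le_inf_right c.1 (le_iSup U i)) (resM M inf_le_left σ) =
        resM M (inf_le_inf_right c.1 (le_iSup U i)) ((R : Γ(X, iSup U ⊓ c.1)) • resM M inf_le_right c.2)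
      rw [resM_resM, resM_smul, resM_resM, hr' i]
      exact congrArg (· • _) (hR i).symm
    exact ⟨⟨σ, hmem⟩, fun i => Subtype.ext (hσ i),
      fun τ hτ => Subtype.ext (huniq τ.1 fun i => congrArg Subtype.val (hτ i))⟩
  let L' : X.Modules := { val := P.toPresheafOfModules, isSheaf := hsheaf }
  refine ⟨L', ⟨P.ι⟩, isInvertible_of_gens fun y => ?_, fun V hV => ⟨fun a b h => Subtype.ext h,
    fun σ => ⟨⟨σ, fun c hc => ?_⟩, rfl⟩⟩⟩
  · obtain ⟨c, hc, hyc⟩ := hcov y
    refine ⟨c.1, hyc, (⟨c.2, fun d hd' => hS.1.2 c hc d hd'⟩ : P.obj (op c.1)), fun V hV => ?_⟩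
    constructor
    · intro a b h
      exact hinj c hc V hV a b (congrArg Subtype.val h)
    · intro σ
      obtain ⟨r, hr⟩ := σ.2 c hc
      have hle : V ≤ V ⊓ c.1 := le_inf le_rfl hV
      refine ⟨rs hle r, Subtype.ext ?_⟩
      show rs hle r • resM M hV c.2 = σ.1
      have := congrArg (resM M hle) hr
      rw [resM_resM, resM_smul, resM_resM] at this
      exact this.symm.trans (resM_self M _ _)
  · obtain ⟨r, hr⟩ := (hS.1.1 c hc (V ⊓ c.1) (le_inf inf_le_right (inf_le_left.trans hV))).2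
      (resM M inf_le_left σ)
    exact ⟨r, hr.symm.trans (congrArg (r • ·) (resM_resM M _ _ _))⟩

end Main

end Groth.Agent.UfdExt24
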